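import Groth.Agent.LTLib.Solve
import Mathlib.RingTheory.MvPowerSeries.Substitution
import Mathlib.RingTheory.MvPowerSeries.Expand
import Mathlib.RingTheory.PowerSeries.Substitution
import Mathlib.RingTheory.DiscreteValuationRing.Basic
import Mathlib.FieldTheory.Finite.Basic
import Mathlib.RingTheory.LocalRing.ResidueField.Basic

/-!
Series commuting with `f = π T + T ^ q` (Lubin-Tate uniqueness and existence).
-/

set_option linter.unusedSectionVars false

universe u v w

open MvPowerSeries Finsupp

namespace Groth.Agent.LTLib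

variable {R : Type u} [CommRing R] {σ : Type v}

/-- `f(X s)` for `f = π T + T ^ q` -/
noncomputable def fX (π : R) (q : ℕ) (s : σ) : MvPowerSeries σ R := π • X s + X s ^ q

theorem fX_eq_mul (π : R) {q : ℕ} (hq : 1 ≤ q) (s : σ) :
    fX π q s = X s * (C π + X s ^ (q - 1)) := by
  rw [fX, mul_add, ← pow_succ', Nat.sub_add_cancel hq, smul_eq_C_mul, mul_comm (C π)]

theorem hasSubst_fX [Finite σ] (π : R) {q : ℕ} (hq : 1 ≤ q) :
    HasSubst (fX (σ := σ) π q) :=
  hasSubst_of_constantCoeff_zero fun s => by
    rw [fX_eq_mul π hq, map_mul, constantCoeff_X, zero_mul]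

theorem prod_fX (π : R) {q : ℕ} (hq : 1 ≤ q) (e : σ →₀ ℕ) :
    (e.prod fun s n => fX π q s ^ n) =
      monomial e 1 * e.prod fun s n => (C π + X s ^ (q - 1)) ^ n := by
  simp only [fX_eq_mul π hq, mul_pow, Finsupp.prod_mul, monomial_one_eq]

theorem coeff_prod_fX [DecidableEq (σ →₀ ℕ)] (π : R) {q : ℕ} (hq : 2 ≤ q) (e d : σ →₀ ℕ) (hle : degree d ≤ degree e) :
    coeff d (e.prod fun s n => fX π q s ^ n) = if e = d then π ^ degree e else 0 := by
  rw [prod_fX π (by omega)]
  classical
  rw [coeff_monomial_mul]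
  by_cases hed : e ≤ d
  · have hdeg : e = d := by
      obtain ⟨c, rfl⟩ := exists_add_of_le hed
      rw [map_add] at hle
      rw [(degree_eq_zero_iff c).1 (by omega), add_zero]
    subst hdeg
    rw [if_pos hed, if_pos rfl, tsub_self, one_mul, coeff_zero_eq_constantCoeff_apply,
      map_finsuppProd]
    simp [Finsupp.prod, Finset.prod_pow_eq_pow_sum, Finsupp.degree, zero_pow (show q - 1 ≠ 0 by omega)]
  · rw [if_neg hed, if_neg (fun (h : e = d) => hed h.le)]

/-- substituting `f(X)` into a series vanishing below degree `m` multiplies degree `m` by `π ^ m` -/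
theorem coeff_subst_fX [Finite σ] (π : R) {q : ℕ} (hq : 2 ≤ q) {δ : MvPowerSeries σ R} {m : ℕ}
    (hδ : ∀ e, degree e < m → coeff e δ = 0) {d : σ →₀ ℕ} (hd : degree d = m) :
    coeff d (subst (fX π q) δ) = π ^ m * coeff d δ := by
  classical
  rw [coeff_subst (hasSubst_fX π (by omega)), finsum_eq_single _ d]
  · rw [coeff_prod_fX π hq d d le_rfl, if_pos rfl, hd, smul_eq_mul, mul_comm]
  · intro e he
    rcases Nat.lt_or_ge (degree e) m with h | h
    · rw [hδ e h, zero_smul]
    · rw [coeff_prod_fX π hq e d (by omega), if_neg he, smul_zero]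

theorem subst_f (π : R) (q : ℕ) {a : MvPowerSeries σ R} (ha : constantCoeff a = 0) :
    PowerSeries.subst a (π • PowerSeries.X + PowerSeries.X ^ q : PowerSeries R) = π • a + a ^ q := by
  have h := PowerSeries.HasSubst.of_constantCoeff_zero ha
  rw [PowerSeries.subst_add h, PowerSeries.subst_smul h, PowerSeries.subst_pow h,
    PowerSeries.subst_X h]

theorem fX_eq_subst (π : R) (q : ℕ) (s : σ) :
    fX π q s = PowerSeries.subst (X s : MvPowerSeries σ R)
      (π • PowerSeries.X + PowerSeries.X ^ q : PowerSeries R) := by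
  rw [subst_f π q (constantCoeff_X s), fX]

theorem coeff_mul_eq_zero {a b : MvPowerSeries σ R} {i j : ℕ}
    (ha : ∀ e, degree e < i → coeff e a = 0) (hb : ∀ e, degree e < j → coeff e b = 0)
    {d : σ →₀ ℕ} (hd : degree d < i + j) : coeff d (a * b) = 0 := by
  classical
  rw [coeff_mul]
  refine Finset.sum_eq_zero fun p hp => ?_
  have h := congrArg degree (Finset.HasAntidiagonal.mem_antidiagonal.1 hp)
  rw [map_add] at h
  rcases Nat.lt_or_ge (degree p.1) i with h1 | h1
  · rw [ha _ h1, zero_mul]
  · rw [hb _ (by omega), mul_zero]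

theorem vanish_pow {a : MvPowerSeries σ R} (ha : constantCoeff a = 0) :
    ∀ (n : ℕ) (e : σ →₀ ℕ), degree e < n → coeff e (a ^ n) = 0 := by
  intro n
  induction n with
  | zero => exact fun e he => absurd he (Nat.not_lt_zero _)
  | succ n ih =>
    intro e he
    rw [pow_succ]
    refine coeff_mul_eq_zero (i := n) (j := 1) ih (fun e he => ?_) he
    rw [(degree_eq_zero_iff e).1 (by omega), coeff_zero_eq_constantCoeff_apply, ha]

/-- if two series without constant term agree below `m`, their `q`-th powers agree up to `m` -/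
theorem coeff_pow_agree {φ ψ : MvPowerSeries σ R} (hφ : constantCoeff φ = 0)
    (hψ : constantCoeff ψ = 0) {m q : ℕ} (h : Agree m φ ψ) (hq : 2 ≤ q) {d : σ →₀ ℕ}
    (hd : degree d = m) : coeff d (φ ^ q) = coeff d (ψ ^ q) := by
  rw [← sub_eq_zero, ← map_sub, ← geom_sum₂_mul]
  refine coeff_mul_eq_zero (i := q - 1) (j := m) (fun e he => ?_) (fun e he => ?_) (by omega)
  · rw [map_sum]
    refine Finset.sum_eq_zero fun i hi => ?_
    have hi' := Finset.mem_range.1 hi
    exact coeff_mul_eq_zero (i := i) (j := q - 1 - i) (vanish_pow hφ i) (vanish_pow hψ _) (by omega)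
  · rw [map_sub, h e he, sub_self]

/-- the defect of commutation with `f` -/
noncomputable def defect (π : R) (q : ℕ) (φ : MvPowerSeries σ R) : MvPowerSeries σ R :=
  π • φ + φ ^ q - subst (fX π q) φ

theorem defect_linearised [Finite σ] (π : R) {q : ℕ} (hq : 2 ≤ q) :
    IsLinearised (defect (σ := σ) π q) (fun m => π - π ^ m) := by
  intro φ ψ m hm hφ hψ h d hd
  have h1 := coeff_pow_agree hφ hψ h hq hd
  have h2 := coeff_subst_fX π hq (δ := φ - ψ) (m := m)
    (fun e he => by rw [map_sub, h e he, sub_self]) hd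
  rw [subst_sub (hasSubst_fX π (by omega)), map_sub, map_sub] at h2
  simp only [defect, map_sub, map_add, map_smul, smul_eq_mul]
  linear_combination h1 - h2

/-- commutation with `f` -/
def Comm (π : R) (q : ℕ) (φ : MvPowerSeries σ R) : Prop :=
  π • φ + φ ^ q = subst (fX π q) φ

theorem comm_iff_subst (π : R) (q : ℕ) {φ : MvPowerSeries σ R} (hφ : constantCoeff φ = 0)
    {f : PowerSeries R} (hf : f = π • PowerSeries.X + PowerSeries.X ^ q) :
    Comm π q φ ↔ PowerSeries.subst φ f =
      subst (fun i => PowerSeries.subst (X i : MvPowerSeries σ R) f) φ := by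
  subst hf
  rw [Comm, subst_f π q hφ]
  simp only [← fX_eq_subst]

theorem comm_X [Finite σ] (π : R) {q : ℕ} (hq : 1 ≤ q) (s : σ) :
    Comm π q (X s : MvPowerSeries σ R) := by
  rw [Comm, subst_X (hasSubst_fX π hq)]
  rfl

theorem comm_subst {τ : Type w} [Finite σ] [Finite τ] (π : R) {q : ℕ} (hq : 1 ≤ q)
    {φ : MvPowerSeries σ R} (hφc : Comm π q φ)
    {g : σ → MvPowerSeries τ R} (hg : ∀ i, constantCoeff (g i) = 0) (hgc : ∀ i, Comm π q (g i)) :
    Comm π q (subst g φ) := by
  have hs := hasSubst_of_constantCoeff_zero hg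
  unfold Comm
  rw [← subst_smul hs, ← subst_pow hs, ← subst_add hs, hφc,
    subst_comp_subst_apply (hasSubst_fX π hq) hs, subst_comp_subst_apply hs (hasSubst_fX π hq)]
  congr 1
  funext i
  rw [← hgc i, fX, subst_add hs, subst_smul hs, subst_pow hs, subst_X hs]

theorem coeff_single_subst {τ : Type w} [Fintype σ] (g : σ → MvPowerSeries τ R)
    (hg : ∀ i, constantCoeff (g i) = 0) (φ : MvPowerSeries σ R) (j : τ) :
    coeff (single j 1) (subst g φ) =
      ∑ i, coeff (single i 1) φ * coeff (single j 1) (g i) := by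
  classical
  rw [coeff_subst (hasSubst_of_constantCoeff_zero hg),
    finsum_eq_sum_of_support_subset (s := Finset.univ.image fun i : σ => single i (1 : ℕ))]
  · rw [Finset.sum_image fun a _ b _ h => single_left_injective one_ne_zero h]
    exact Finset.sum_congr rfl fun i _ => by simp
  · intro e he
    have he' : coeff e φ • coeff (single j 1) (e.prod fun s n => g s ^ n) ≠ 0 := he
    simp only [Finset.coe_image, Finset.coe_univ, Set.image_univ, Set.mem_range]
    by_contra hne
    apply he'
    rcases Nat.lt_or_ge (degree e) 2 with h2 | h2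
    · interval_cases h : degree e
      · rw [(degree_eq_zero_iff e).1 h]
        simp [coeff_one, single_eq_zero]
      · obtain ⟨i, hi⟩ : ∃ i, e i ≠ 0 := by
          by_contra! h0
          rw [Finsupp.ext (g := 0) h0, map_zero] at h
          exact zero_ne_one h
        obtain ⟨c, rfl⟩ := exists_add_of_le
          (show single i 1 ≤ e from single_le_iff.2 (Nat.one_le_iff_ne_zero.2 hi))
        rw [map_add, degree_single] at h
        rw [(degree_eq_zero_iff c).1 (by omega), add_zero] at hne
        exact absurd ⟨i, rfl⟩ hne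
    · rw [show coeff (single j 1) (e.prod fun s n => g s ^ n) = 0 from ?_, smul_zero]
      refine coeff_of_lt_order ?_
      refine lt_of_lt_of_le ?_ (le_order_prod _ _)
      calc ((degree (single j 1) : ℕ) : ℕ∞) < ((degree e : ℕ) : ℕ∞) := by
            rw [degree_single]; exact_mod_cast h2
        _ = ∑ i ∈ e.support, (e i : ℕ∞) := by simp [Finsupp.degree]
        _ ≤ ∑ i ∈ e.support, (g i ^ e i).order :=
            Finset.sum_le_sum fun i _ => le_order_pow_of_constantCoeff_eq_zero _ (hg i)

end Groth.Agent.LTLib
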