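import Mathlib.RingTheory.PowerSeries.WeierstrassPreparation
import Mathlib.RingTheory.PowerSeries.Substitution
import Mathlib.LinearAlgebra.InvariantBasisNumber

/-!
When is `A⟦X⟧` free of finite rank over itself through `X ↦ f`?
-/

set_option linter.unusedSectionVars false

universe u

open PowerSeries

namespace Groth.Agent.LTLib

variable {A : Type u} [CommRing A] {f : PowerSeries A}

theorem subst_eq_const_add (hf : constantCoeff f = 0) (c : PowerSeries A) :
    subst f c = C (coeff 0 c) + f * subst f (PowerSeries.mk fun j => coeff (j + 1) c) := by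
  have h := HasSubst.of_constantCoeff_zero' hf
  conv_lhs => rw [eq_X_mul_shift_add_const c]
  rw [subst_add h, subst_mul h, subst_X h, subst_C, add_comm, coeff_zero_eq_constantCoeff_apply]
  rfl

/-- `∑ᵢ cᵢ(f) Xⁱ` -/
noncomputable def comb (f : PowerSeries A) {n : ℕ} (c : Fin n → PowerSeries A) : PowerSeries A :=
  ∑ i, subst f (c i) * X ^ (i : ℕ)

theorem comb_step (hf : constantCoeff f = 0) {n : ℕ} (c : Fin n → PowerSeries A) :
    comb f c = ((∑ i, Polynomial.C (coeff 0 (c i)) * Polynomial.X ^ (i : ℕ) : Polynomial A) :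
      PowerSeries A) + f * comb f fun i => PowerSeries.mk fun j => coeff (j + 1) (c i) := by
  rw [comb, comb, Finset.mul_sum, ← Polynomial.coeToPowerSeries.ringHom_apply, map_sum,
    ← Finset.sum_add_distrib]
  refine Finset.sum_congr rfl fun i _ => ?_
  rw [subst_eq_const_add hf (c i), Polynomial.coeToPowerSeries.ringHom_apply, Polynomial.coe_mul,
    Polynomial.coe_C, Polynomial.coe_pow, Polynomial.coe_X]
  ring

theorem comb_sub (hf : constantCoeff f = 0) {n : ℕ} (c c' : Fin n → PowerSeries A) :
    comb f (c - c') = comb f c - comb f c' := by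
  simp only [comb, Pi.sub_apply, subst_sub (HasSubst.of_constantCoeff_zero' hf), sub_mul,
    Finset.sum_sub_distrib]

variable [IsLocalRing A] [IsAdicComplete (IsLocalRing.maximalIdeal A) A]

theorem comb_eq_zero (hf : constantCoeff f = 0) (hbar : f.map (IsLocalRing.residue A) ≠ 0) :
    ∀ (j : ℕ) (c : Fin (f.map (IsLocalRing.residue A)).order.toNat → PowerSeries A),
      comb f c = 0 → ∀ i, coeff j (c i) = 0 := by
  intro j
  induction j with
  | zero =>
    intro c hc i
    rw [comb_step hf] at hc
    have H : IsWeierstrassDivision 0 f (comb f fun i => PowerSeries.mk fun j => coeff (j + 1) (c i))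
        (∑ i, Polynomial.C (coeff 0 (c i)) * Polynomial.X ^ (i : ℕ)) :=
      ⟨Polynomial.degree_sum_fin_lt _, by rw [add_comm, hc]⟩
    have h := congrArg (fun p => Polynomial.coeff p (i : ℕ)) (H.eq_zero hbar).2
    simpa [Polynomial.coeff_C_mul, Polynomial.coeff_X_pow, Fin.val_inj] using h
  | succ j ih =>
    intro c hc i
    rw [comb_step hf] at hc
    have H : IsWeierstrassDivision 0 f (comb f fun i => PowerSeries.mk fun j => coeff (j + 1) (c i))
        (∑ i, Polynomial.C (coeff 0 (c i)) * Polynomial.X ^ (i : ℕ)) :=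
      ⟨Polynomial.degree_sum_fin_lt _, by rw [add_comm, hc]⟩
    simpa using ih _ (H.eq_zero hbar).1 i

theorem exists_comb (hf : constantCoeff f = 0) (hbar : f.map (IsLocalRing.residue A) ≠ 0)
    (g : PowerSeries A) :
    ∃ c : Fin (f.map (IsLocalRing.residue A)).order.toNat → PowerSeries A, comb f c = g := by
  classical
  let n := (f.map (IsLocalRing.residue A)).order.toNat
  let q : ℕ → PowerSeries A := fun k => Nat.rec g (fun _ h => h /ʷ f) k
  let c : ℕ → Fin n → PowerSeries A := fun k i =>
    PowerSeries.mk fun j => (q (k + j) %ʷ f).coeff i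
  have hstep : ∀ k, q k - comb f (c k) = f * (q (k + 1) - comb f (c (k + 1))) := by
    intro k
    have hc : (fun i => PowerSeries.mk fun j => coeff (j + 1) (c k i)) = c (k + 1) := by
      funext i
      ext j
      simp [c, Nat.add_assoc, Nat.add_comm 1 j]
    have hr : (∑ i : Fin n, Polynomial.C (coeff 0 (c k i)) * Polynomial.X ^ (i : ℕ)) = q k %ʷ f := by
      refine Polynomial.ext fun d => ?_
      by_cases hd : d < n
      · rw [Polynomial.finsetSum_coeff, Finset.sum_eq_single (⟨d, hd⟩ : Fin n)]
        · simp [c]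
        · intro b _ hb
          have hb' : d ≠ (b : ℕ) := fun h => hb (Fin.ext h.symm)
          simp [Polynomial.coeff_C_mul, Polynomial.coeff_X_pow, hb']
        · simp
      · rw [Polynomial.coeff_eq_zero_of_degree_lt, Polynomial.coeff_eq_zero_of_degree_lt]
        · exact lt_of_lt_of_le (degree_weierstrassMod_lt (q k) f) (by exact_mod_cast Nat.le_of_not_lt hd)
        · exact lt_of_lt_of_le (Polynomial.degree_sum_fin_lt _) (by exact_mod_cast Nat.le_of_not_lt hd)
    have hq : q k = f * q (k + 1) + (q k %ʷ f : Polynomial A) :=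
      eq_mul_weierstrassDiv_add_weierstrassMod (q k) hbar
    rw [comb_step hf (c k), hc, hr]
    linear_combination hq
  have hpow : ∀ k, q 0 - comb f (c 0) = f ^ k * (q k - comb f (c k)) := by
    intro k
    induction k with
    | zero => simp
    | succ k ih => rw [ih, hstep k, pow_succ]; ring
  refine ⟨c 0, (sub_eq_zero.1 (PowerSeries.ext fun d => ?_)).symm⟩
  show coeff d (q 0 - comb f (c 0)) = coeff d 0
  obtain ⟨w, hw⟩ := (X_dvd_iff.2 hf)
  rw [map_zero, hpow (d + 1), hw, mul_pow, mul_assoc, coeff_X_pow_mul', if_neg (by omega)]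

theorem exists_free_along (hf : constantCoeff f = 0) (hbar : f.map (IsLocalRing.residue A) ≠ 0) :
    ∃ (n : ℕ) (b : Fin n → PowerSeries A), ∀ g : PowerSeries A, ∃! c : Fin n → PowerSeries A,
      g = ∑ i, subst f (c i) * b i := by
  refine ⟨(f.map (IsLocalRing.residue A)).order.toNat, fun i => X ^ (i : ℕ), fun g => ?_⟩
  obtain ⟨c, hc⟩ := exists_comb hf hbar g
  refine ⟨c, hc.symm, fun c' hc' => ?_⟩
  have h : comb f (c' - c) = 0 := by rw [comb_sub hf, hc, sub_eq_zero]; exact hc'.symm
  funext i
  ext j
  have := comb_eq_zero hf hbar j _ h i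
  rwa [Pi.sub_apply, map_sub, sub_eq_zero] at this

omit [IsAdicComplete (IsLocalRing.maximalIdeal A) A] in
theorem map_ne_zero_of_spanning (hf : constantCoeff f = 0) {n : ℕ} (b : Fin n → PowerSeries A)
    (h : ∀ g, ∃ c : Fin n → PowerSeries A, g = ∑ i, subst f (c i) * b i) :
    f.map (IsLocalRing.residue A) ≠ 0 := by
  classical
  intro hbar
  let k := IsLocalRing.ResidueField A
  let L : (Fin n → k) →ₗ[k] (Fin (n + 1) → k) :=
    { toFun := fun a d => ∑ i, a i * IsLocalRing.residue A (coeff (d : ℕ) (b i))
      map_add' := fun a a' => by funext d; simp [add_mul, Finset.sum_add_distrib]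
      map_smul' := fun r a => by
        funext d
        simp only [Pi.smul_apply, smul_eq_mul, RingHom.id_apply, mul_assoc]
        exact (Finset.mul_sum ..).symm }
  have hL : Function.Surjective L := by
    intro y
    choose y' hy' using fun d => IsLocalRing.residue_surjective (R := A) (y d)
    obtain ⟨c, hc⟩ := h (∑ d : Fin (n + 1), C (y' d) * X ^ (d : ℕ))
    refine ⟨fun i => IsLocalRing.residue A (coeff 0 (c i)), funext fun d => ?_⟩
    have he := congrArg (fun s : PowerSeries A => coeff (d : ℕ) (PowerSeries.map (IsLocalRing.residue A) s)) hc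
    have e : ∀ i, PowerSeries.map (IsLocalRing.residue A) (subst f (c i) : PowerSeries A) =
        C (IsLocalRing.residue A (coeff 0 (c i))) := fun i => by
      rw [subst_eq_const_add hf (c i), map_add, map_mul, hbar, zero_mul, add_zero, map_C]
    simp only [map_sum, map_mul, e, map_C, map_pow, map_X] at he
    simp only [coeff_C_mul, coeff_map] at he
    simp only [coeff_X_pow, mul_ite, mul_one, mul_zero, Fin.val_inj, Finset.sum_ite_eq,
      Finset.mem_univ, if_true, hy'] at he
    exact he.symm
  exact Nat.lt_irrefl n (le_of_fin_surjective k L hL)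

end Groth.Agent.LTLib
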