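import Groth.Agent.LTLib.Log
import Mathlib.RingTheory.FormalGroup.Basic

/-!
Solving `G (a, φ) = 0` for `φ`, and the inverse series of a formal group law.
-/

set_option linter.unusedSectionVars false

universe u v w

open MvPowerSeries Finsupp

namespace Groth.Agent.LTLib

variable {R : Type u} [CommRing R] {σ : Type v}

theorem coeff_pow_sub_eq_zero {φ ψ : MvPowerSeries σ R} (hφ : constantCoeff φ = 0)
    (hψ : constantCoeff ψ = 0) {m n : ℕ} (h : Agree m φ ψ) {d : σ →₀ ℕ}
    (hd : degree d < n - 1 + m) : coeff d (φ ^ n - ψ ^ n) = 0 := by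
  rw [← geom_sum₂_mul]
  refine coeff_mul_eq_zero (i := n - 1) (j := m) (fun e he => ?_) (fun e he => ?_) hd
  · rw [map_sum]
    refine Finset.sum_eq_zero fun i hi => ?_
    have hi' := Finset.mem_range.1 hi
    exact coeff_mul_eq_zero (i := i) (j := n - 1 - i) (vanish_pow hφ i) (vanish_pow hψ _) (by omega)
  · rw [map_sub, h e he, sub_self]

theorem subst_pair_linearised [Finite σ] (G : MvPowerSeries (Fin 2) R) {a : MvPowerSeries σ R}
    (ha : constantCoeff a = 0) :
    IsLinearised (fun φ => subst ![a, φ] G) (fun _ => coeff (single 1 1) G) := by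
  classical
  intro φ ψ m hm hφ hψ h d hd
  have hs : ∀ {χ : MvPowerSeries σ R}, constantCoeff χ = 0 → HasSubst ![a, χ] := fun hχ =>
    hasSubst_of_constantCoeff_zero fun i => by fin_cases i <;> simpa
  have e1 := coeff_subst (hs hφ) G d
  have e2 := coeff_subst (hs hψ) G d
  rw [e1, e2, ← finsum_sub_distrib (coeff_subst_finite (hs hφ) G d) (coeff_subst_finite (hs hψ) G d),
    finsum_eq_single _ (single 1 1)]
  · simp [smul_eq_mul, mul_sub]
  · intro e he
    rw [← smul_sub, ← map_sub, Finsupp.prod_fintype _ _ (fun _ => pow_zero _),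
      Finsupp.prod_fintype _ _ (fun _ => pow_zero _), Fin.prod_univ_two, Fin.prod_univ_two]
    simp only [Matrix.cons_val_zero, Matrix.cons_val_one, Matrix.cons_val_fin_one]
    rw [← mul_sub]
    by_cases h1 : e 1 = 0
    · simp [h1]
    have h2 : e 0 ≠ 0 ∨ 2 ≤ e 1 := by
      by_contra! h3
      apply he
      ext i
      fin_cases i
      · simpa using h3.1
      · simp; omega
    rw [coeff_mul_eq_zero (i := e 0) (j := e 1 - 1 + m) (vanish_pow ha _)
      (fun c hc => coeff_pow_sub_eq_zero hφ hψ h hc) (by omega), smul_zero]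

theorem exists_pair_root [Finite σ] (G : MvPowerSeries (Fin 2) R) (hG : constantCoeff G = 0)
    (hc : coeff (single 1 1) G = 1) {a : MvPowerSeries σ R} (ha : constantCoeff a = 0) :
    ∃ φ, constantCoeff φ = 0 ∧ subst ![a, φ] G = 0 := by
  classical
  have := Fintype.ofFinite σ
  let φ₀ : MvPowerSeries σ R := ∑ i, (-(coeff (single 0 1) G * coeff (single i 1) a)) • X i
  have h₀ : constantCoeff φ₀ = 0 := by simp [φ₀]
  obtain ⟨φ, hφ0, hφ1, hφ2⟩ := solve_exists (subst_pair_linearised G ha) φ₀ h₀
    (fun φ d _ _ _ => by simp [hc])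
  have h0 : ∀ i, constantCoeff (![a, φ] i) = 0 := fun i => by fin_cases i <;> simpa
  refine ⟨φ, hφ0, ext fun d => ?_⟩
  rw [map_zero]
  rcases Nat.lt_or_ge (degree d) 2 with h | h
  · rcases Nat.lt_or_ge (degree d) 1 with h' | h'
    · rw [(degree_eq_zero_iff d).1 (by omega), coeff_zero_eq_constantCoeff_apply]
      exact constantCoeff_subst_eq_zero (hasSubst_of_constantCoeff_zero h0) h0 hG
    · obtain ⟨i, rfl⟩ := exists_single_of_degree_one (show degree d = 1 by omega)
      rw [coeff_single_subst _ h0, Fin.sum_univ_two, hc]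
      simp only [Matrix.cons_val_zero, Matrix.cons_val_one, Matrix.cons_val_fin_one, one_mul]
      rw [hφ1 _ (degree_single i 1)]
      simp [φ₀, coeff_X, single_left_inj (one_ne_zero (α := ℕ)), Finset.sum_ite_eq]
  · exact hφ2 d h

theorem pair_root_unique [Finite σ] {G : MvPowerSeries (Fin 2) R}
    (hc : coeff (single 1 1) G = 1) {a φ ψ : MvPowerSeries σ R} (ha : constantCoeff a = 0)
    (hφ : constantCoeff φ = 0) (hψ : constantCoeff ψ = 0)
    (h1 : subst ![a, φ] G = 0) (h2 : subst ![a, ψ] G = 0) : φ = ψ := by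
  refine solve_unique (subst_pair_linearised G ha) (fun _ _ x hx => by simpa [hc] using hx)
    hφ hψ (fun d hd => ?_) (fun d _ => by simp only [h1, h2])
  have := subst_pair_linearised G ha φ ψ 1 le_rfl hφ hψ
    (fun e he => by
      rw [(degree_eq_zero_iff e).1 (by omega), coeff_zero_eq_constantCoeff_apply,
        coeff_zero_eq_constantCoeff_apply, hφ, hψ]) d hd
  simp only [h1, h2, sub_self, hc, one_mul] at this
  exact sub_eq_zero.1 this.symm

variable (F : FormalGroup R)

/-- a left inverse exists -/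
theorem exists_left_root [Finite σ] {a : MvPowerSeries σ R} (ha : constantCoeff a = 0) :
    ∃ φ, constantCoeff φ = 0 ∧ subst ![φ, a] F.toPowerSeries = 0 := by
  classical
  have hX : ∀ i, constantCoeff ((![X 1, X 0] : Fin 2 → MvPowerSeries (Fin 2) R) i) = 0 := fun i => by
    fin_cases i <;> simp
  obtain ⟨φ, h0, h⟩ := exists_pair_root (subst ![X 1, X 0] F.toPowerSeries)
    (constantCoeff_subst_eq_zero (hasSubst_of_constantCoeff_zero hX) hX F.zero_constantCoeff)
    (by
      rw [coeff_single_subst _ hX, Fin.sum_univ_two]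
      simp [F.lin_coeff_X, coeff_X, single_left_inj]) ha
  refine ⟨φ, h0, ?_⟩
  have hs : HasSubst ![a, φ] :=
    hasSubst_of_constantCoeff_zero fun i => by fin_cases i <;> simpa
  rw [subst_comp_subst_apply (hasSubst_of_constantCoeff_zero hX) hs] at h
  rw [← h]
  congr 1
  funext i
  fin_cases i <;> simp [subst_X hs]

/-- left and right inverses agree -/
theorem left_eq_right {a φ ψ : MvPowerSeries σ R} (ha : constantCoeff a = 0)
    (hφ : constantCoeff φ = 0) (hψ : constantCoeff ψ = 0)
    (h1 : subst ![φ, a] F.toPowerSeries = 0) (h2 : subst ![a, ψ] F.toPowerSeries = 0) : φ = ψ := by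
  let A : F.Point σ := ⟨a, PowerSeries.HasSubst.of_constantCoeff_zero ha⟩
  let P : F.Point σ := ⟨φ, PowerSeries.HasSubst.of_constantCoeff_zero hφ⟩
  let Q : F.Point σ := ⟨ψ, PowerSeries.HasSubst.of_constantCoeff_zero hψ⟩
  have e1 : P + A = 0 := Subtype.ext h1
  have e2 : A + Q = 0 := Subtype.ext h2
  have : P = Q := by rw [← add_zero P, ← e2, ← add_assoc, e1, zero_add]
  exact congrArg Subtype.val this

end Groth.Agent.LTLib
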