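import Groth.Agent.LTLib.Basic

/-!
Existence and uniqueness of series commuting with `π T + T ^ q` over a discrete valuation ring
with residue field of cardinality `q`.
-/

set_option linter.unusedSectionVars false

universe u v

open MvPowerSeries Finsupp

namespace Groth.Agent.LTLib

variable {O : Type u} [CommRing O] [IsDomain O] [IsDiscreteValuationRing O]
  [Finite (IsLocalRing.ResidueField O)] {π : O} {σ : Type v} [Fintype σ]

/-- the cardinality of the residue field -/
noncomputable abbrev resCard (O : Type u) [CommRing O] [IsLocalRing O] : ℕ :=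
  Nat.card (IsLocalRing.ResidueField O)

theorem two_le_resCard : 2 ≤ resCard O := Finite.one_lt_card

theorem isUnit_one_sub (hπ : Irreducible π) {k : ℕ} (hk : 1 ≤ k) : IsUnit (1 - π ^ k) :=
  IsLocalRing.isUnit_one_sub_self_of_mem_nonunits _ <| by
    rw [mem_nonunits_iff, isUnit_pow_iff (by omega)]
    exact hπ.not_isUnit

theorem pi_sub_pow (m : ℕ) (hm : 1 ≤ m) : π - π ^ m = π * (1 - π ^ (m - 1)) := by
  rw [mul_sub, mul_one, ← pow_succ', Nat.sub_add_cancel hm]

theorem eq_zero_of_sub_pow_mul (hπ : Irreducible π) (m : ℕ) (hm : 2 ≤ m) (a : O)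
    (h : (π - π ^ m) * a = 0) : a = 0 := by
  rw [pi_sub_pow m (by omega), mul_assoc, mul_eq_zero] at h
  exact ((isUnit_one_sub hπ (by omega)).mul_right_eq_zero).1 (h.resolve_left hπ.ne_zero)

theorem residue_pi (hπ : Irreducible π) : IsLocalRing.residue O π = 0 :=
  Ideal.Quotient.eq_zero_iff_mem.2 ((IsLocalRing.mem_maximalIdeal π).2 hπ.not_isUnit)

theorem pi_dvd_defect (hπ : Irreducible π) {φ : MvPowerSeries σ O} (hφ : constantCoeff φ = 0)
    (d : σ →₀ ℕ) : π ∣ coeff d (defect π (resCard O) φ) := by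
  have hq := two_le_resCard (O := O)
  have := Fintype.ofFinite (IsLocalRing.ResidueField O)
  obtain ⟨p, hp⟩ := CharP.exists (IsLocalRing.ResidueField O)
  obtain ⟨n, hpp, hcard⟩ := FiniteField.card (IsLocalRing.ResidueField O) p
  have : Fact p.Prime := ⟨hpp⟩
  have hcard' : resCard O = p ^ (n : ℕ) := by rw [resCard, Nat.card_eq_fintype_card, hcard]
  set ρ := IsLocalRing.residue O with hρ
  have hzero : MvPowerSeries.map ρ (defect π (resCard O) φ) = 0 := by
    have hfrob : iterateFrobenius (IsLocalRing.ResidueField O) p n = RingHom.id _ := by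
      ext a
      rw [iterateFrobenius_def, RingHom.id_apply, ← hcard, FiniteField.pow_card]
    have h1 := map_iterateFrobenius_expand (R := IsLocalRing.ResidueField O) p hpp.ne_zero
      (MvPowerSeries.map ρ φ) n
    rw [hfrob, map_id, RingHom.id_apply] at h1
    have h2 : MvPowerSeries.map ρ (subst (fX π (resCard O)) φ) =
        MvPowerSeries.expand (p ^ (n : ℕ)) (pow_ne_zero _ hpp.ne_zero) (MvPowerSeries.map ρ φ) := by
      rw [map_subst (hasSubst_fX π (by omega))]
      simp only [fX, smul_eq_C_mul, map_add, map_mul, map_pow, map_C, map_X, hρ, residue_pi hπ,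
        map_zero, zero_mul, zero_add, hcard']
      rw [MvPowerSeries.expand, substAlgHom_apply]
    simp only [defect, map_sub, map_add, smul_eq_C_mul, map_mul, map_C, map_pow, hρ,
      residue_pi hπ, map_zero, zero_mul, zero_add]
    rw [← hρ, h2, h1, hcard', sub_self]
  have h3 := congrArg (coeff d) hzero
  rw [coeff_map, map_zero] at h3
  have h4 := Ideal.Quotient.eq_zero_iff_mem.1 h3
  rwa [hπ.maximalIdeal_eq, Ideal.mem_span_singleton] at h4

theorem defect_eq_zero_iff (π : O) (q : ℕ) (φ : MvPowerSeries σ O) :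
    defect π q φ = 0 ↔ Comm π q φ := sub_eq_zero

theorem coeff_lt_two {φ : MvPowerSeries σ O} (hφ : constantCoeff φ = 0) {q : ℕ} (hq : 2 ≤ q) (π : O)
    {d : σ →₀ ℕ} (hd : degree d < 2) : coeff d (defect π q φ) = 0 := by
  classical
  rcases Nat.lt_or_ge (degree d) 1 with h | h
  · rw [(degree_eq_zero_iff d).1 (by omega), coeff_zero_eq_constantCoeff_apply]
    simp only [defect, smul_eq_C_mul, map_sub, map_add, map_mul, map_pow, hφ, mul_zero,
      zero_pow (show q ≠ 0 by omega), add_zero, zero_sub, neg_eq_zero]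
    refine constantCoeff_subst_eq_zero (hasSubst_fX π (by omega)) (fun s => ?_) hφ
    rw [fX_eq_mul π (by omega), map_mul, constantCoeff_X, zero_mul]
  · have h1 : degree d = 1 := by omega
    have := defect_linearised (σ := σ) π hq φ 0 1 le_rfl hφ (map_zero _)
      (fun e he => by
        rw [(degree_eq_zero_iff e).1 (by omega), coeff_zero_eq_constantCoeff_apply, hφ, map_zero]) d h1
    simp only [pow_one, sub_self, zero_mul] at this
    rw [sub_eq_zero] at this
    rw [this]
    rw [defect, smul_zero, zero_pow (show q ≠ 0 by omega), ← substAlgHom_apply (hasSubst_fX π (by omega)),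
      map_zero, add_zero, sub_zero, map_zero]

/-- uniqueness -/
theorem comm_ext (hπ : Irreducible π) {φ ψ : MvPowerSeries σ O} (hφ : constantCoeff φ = 0)
    (hψ : constantCoeff ψ = 0) (hφc : Comm π (resCard O) φ) (hψc : Comm π (resCard O) ψ)
    (h : ∀ i, coeff (single i 1) φ = coeff (single i 1) ψ) : φ = ψ := by
  refine solve_unique (defect_linearised π two_le_resCard) (eq_zero_of_sub_pow_mul hπ) hφ hψ
    (fun d hd => ?_) (fun d _ => by
      rw [(defect_eq_zero_iff π _ φ).2 hφc, (defect_eq_zero_iff π _ ψ).2 hψc])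
  obtain ⟨i, hi⟩ : ∃ i, d i ≠ 0 := by
    by_contra! h0
    rw [Finsupp.ext (g := 0) h0, map_zero] at hd
    exact zero_ne_one hd
  obtain ⟨c, rfl⟩ := exists_add_of_le
    (show single i 1 ≤ d from single_le_iff.2 (Nat.one_le_iff_ne_zero.2 hi))
  rw [map_add, degree_single] at hd
  rw [(degree_eq_zero_iff c).1 (by omega), add_zero]
  exact h i

/-- existence -/
theorem exists_comm (hπ : Irreducible π) (c : σ → O) :
    ∃ φ : MvPowerSeries σ O, constantCoeff φ = 0 ∧ Comm π (resCard O) φ ∧
      ∀ i, coeff (single i 1) φ = c i := by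
  classical
  let φ₀ : MvPowerSeries σ O := ∑ i, c i • X i
  have h0 : constantCoeff φ₀ = 0 := by simp [φ₀]
  have h1 : ∀ i, coeff (single i 1) φ₀ = c i := fun i => by
    simp [φ₀, coeff_X, single_left_inj (one_ne_zero (α := ℕ)), Finset.sum_ite_eq]
  obtain ⟨φ, hφ0, hφ1, hφ2⟩ := solve_exists (defect_linearised π two_le_resCard) φ₀ h0
    (fun φ d hφ _ hd => by
      obtain ⟨b, hb⟩ := pi_dvd_defect hπ hφ d
      rw [hb, pi_sub_pow _ (by omega)]
      exact mul_dvd_mul_left π ((isUnit_one_sub hπ (by omega)).dvd))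
  refine ⟨φ, hφ0, (defect_eq_zero_iff π _ φ).1 (ext fun d => ?_), fun i => ?_⟩
  · rcases Nat.lt_or_ge (degree d) 2 with h | h
    · exact coeff_lt_two hφ0 two_le_resCard π h
    · exact hφ2 d h
  · rw [hφ1 _ (degree_single i 1), h1]

end Groth.Agent.LTLib
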