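import Groth.Agent.LTLib.Basic

/-!
The logarithm equation `ℓ (f T) = π ℓ T` over a ring in which `π ^ m - π` is invertible for `m ≥ 2`.
-/

set_option linter.unusedSectionVars false

universe u v w

open MvPowerSeries Finsupp

namespace Groth.Agent.LTLib

variable {K : Type u} [CommRing K] {σ : Type v} [Finite σ] {π : K} {q : ℕ}

theorem exists_single_of_degree_one {d : σ →₀ ℕ} (hd : degree d = 1) : ∃ i, d = single i 1 := by
  obtain ⟨i, hi⟩ : ∃ i, d i ≠ 0 := by
    by_contra! h0
    rw [Finsupp.ext (g := 0) h0, map_zero] at hd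
    exact zero_ne_one hd
  obtain ⟨c, rfl⟩ := exists_add_of_le
    (show single i 1 ≤ d from single_le_iff.2 (Nat.one_le_iff_ne_zero.2 hi))
  rw [map_add, degree_single] at hd
  exact ⟨i, by rw [(degree_eq_zero_iff c).1 (by omega), add_zero]⟩

theorem comm_map {R : Type u} [CommRing R] (h : R →+* K) {π : R} (hq : 1 ≤ q)
    {φ : MvPowerSeries σ R} (hφ : Comm π q φ) : Comm (h π) q (MvPowerSeries.map h φ) := by
  have := congrArg (MvPowerSeries.map h) hφ
  rw [map_subst (hasSubst_fX π hq), map_add, map_pow, smul_eq_C_mul, map_mul, map_C,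
    ← smul_eq_C_mul] at this
  unfold Comm
  rw [this]
  congr 1
  funext s
  simp [fX, smul_eq_C_mul]

/-- the defect of the logarithm equation -/
noncomputable def logDefect (π : K) (q : ℕ) (ψ : MvPowerSeries σ K) : MvPowerSeries σ K :=
  subst (fX π q) ψ - π • ψ

theorem logDefect_linearised (hq : 2 ≤ q) :
    IsLinearised (logDefect (σ := σ) π q) (fun m => π ^ m - π) := by
  intro φ ψ m _ _ _ h d hd
  have h2 := coeff_subst_fX π hq (δ := φ - ψ) (m := m)
    (fun e he => by rw [map_sub, h e he, sub_self]) hd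
  rw [subst_sub (hasSubst_fX π (by omega)), map_sub, map_sub] at h2
  simp only [logDefect, map_sub, map_smul, smul_eq_mul]
  linear_combination h2

theorem log_unique (hq : 2 ≤ q) (hu : ∀ m, 2 ≤ m → IsUnit (π ^ m - π))
    {φ ψ : MvPowerSeries σ K} (hφ : constantCoeff φ = 0) (hψ : constantCoeff ψ = 0)
    (h1 : logDefect π q φ = 0) (h2 : logDefect π q ψ = 0)
    (h : ∀ i, coeff (single i 1) φ = coeff (single i 1) ψ) : φ = ψ := by
  refine solve_unique (logDefect_linearised hq) (fun m hm a ha => (hu m hm).mul_right_eq_zero.1 ha)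
    hφ hψ (fun d hd => ?_) (fun d _ => by rw [h1, h2])
  obtain ⟨i, rfl⟩ := exists_single_of_degree_one hd
  exact h i

theorem log_exists (hq : 2 ≤ q) (hu : ∀ m, 2 ≤ m → IsUnit (π ^ m - π)) (φ₀ : MvPowerSeries σ K)
    (h₀ : constantCoeff φ₀ = 0) :
    ∃ φ, constantCoeff φ = 0 ∧ (∀ i, coeff (single i 1) φ = coeff (single i 1) φ₀) ∧
      logDefect π q φ = 0 := by
  obtain ⟨φ, hφ0, hφ1, hφ2⟩ := solve_exists (logDefect_linearised hq) φ₀ h₀
    (fun φ d _ _ hd => (hu _ hd).dvd)
  refine ⟨φ, hφ0, fun i => hφ1 _ (degree_single i 1), ext fun d => ?_⟩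
  rw [map_zero]
  rcases Nat.lt_or_ge (degree d) 2 with h | h
  · rcases Nat.lt_or_ge (degree d) 1 with h' | h'
    · rw [(degree_eq_zero_iff d).1 (by omega), coeff_zero_eq_constantCoeff_apply]
      simp only [logDefect, smul_eq_C_mul, map_sub, map_mul, hφ0, mul_zero, sub_zero]
      refine constantCoeff_subst_eq_zero (hasSubst_fX π (by omega)) (fun s => ?_) hφ0
      rw [fX_eq_mul π (by omega), map_mul, constantCoeff_X, zero_mul]
    · have hd : degree d = 1 := by omega
      have := logDefect_linearised (σ := σ) (π := π) hq φ 0 1 le_rfl hφ0 (map_zero _)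
        (fun e he => by
          rw [(degree_eq_zero_iff e).1 (by omega), coeff_zero_eq_constantCoeff_apply, hφ0, map_zero]) d hd
      simp only [pow_one, sub_self, zero_mul, sub_eq_zero] at this
      rw [this, logDefect, ← substAlgHom_apply (hasSubst_fX π (by omega)), map_zero, smul_zero,
        sub_zero, map_zero]
  · exact hφ2 d h

theorem logDefect_subst (hq : 2 ≤ q) {ℓ : PowerSeries K}
    (hℓ : PowerSeries.subst (π • PowerSeries.X + PowerSeries.X ^ q : PowerSeries K) ℓ = π • ℓ)
    {a : MvPowerSeries σ K} (ha : constantCoeff a = 0) (hac : Comm π q a) :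
    logDefect π q (PowerSeries.subst a ℓ) = 0 := by
  have hs := hasSubst_of_constantCoeff_zero (a := fun _ : Unit => a) fun _ => ha
  have hf : HasSubst (fun _ : Unit => (π • PowerSeries.X + PowerSeries.X ^ q : PowerSeries K)) :=
    hasSubst_of_constantCoeff_zero fun _ => by
      show PowerSeries.constantCoeff (π • PowerSeries.X + PowerSeries.X ^ q : PowerSeries K) = 0
      simp [PowerSeries.smul_eq_C_mul, zero_pow (show q ≠ 0 by omega)]
  rw [logDefect, sub_eq_zero]
  show subst (fX π q) (subst (fun _ : Unit => a) ℓ) = π • subst (fun _ : Unit => a) ℓ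
  rw [subst_comp_subst_apply hs (hasSubst_fX π (by omega))]
  have e : (fun _ : Unit => subst (fX π q) a) = fun _ : Unit =>
      subst (fun _ : Unit => a) (π • PowerSeries.X + PowerSeries.X ^ q : PowerSeries K) := by
    funext _
    rw [← hac]
    exact (subst_f π q ha).symm
  rw [e, ← subst_comp_subst_apply hf hs, ← subst_smul hs]
  exact congrArg (subst fun _ : Unit => a) hℓ

theorem coeff_single_powerSeries_subst {ℓ : PowerSeries K} {a : MvPowerSeries σ K}
    (ha : constantCoeff a = 0) (j : σ) :
    coeff (single j 1) (PowerSeries.subst a ℓ) = PowerSeries.coeff 1 ℓ * coeff (single j 1) a := by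
  rw [show PowerSeries.subst a ℓ = subst (fun _ : Unit => a) ℓ from rfl,
    coeff_single_subst _ (fun _ => ha), Fintype.sum_unique]
  rfl

end Groth.Agent.LTLib
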