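import Mathlib.RingTheory.MvPowerSeries.Order
import Mathlib.Data.Finsupp.Weight

/-!
Solving equations on multivariate power series degree by degree.
-/

set_option linter.unusedSectionVars false

universe u v w

open MvPowerSeries Finsupp

namespace Groth.Agent.LTLib

variable {R : Type u} [CommRing R] {σ : Type v}

/-- two series agree in degrees `< m` -/
def Agree (m : ℕ) (φ ψ : MvPowerSeries σ R) : Prop := ∀ d, degree d < m → coeff d φ = coeff d ψ

/-- `E` is linearised by `u`: if two series without constant term agree below `m`, their images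
differ in degree `m` by `u m` times their difference. -/
def IsLinearised (E : MvPowerSeries σ R → MvPowerSeries σ R) (u : ℕ → R) : Prop :=
  ∀ (φ ψ : MvPowerSeries σ R) (m : ℕ), 1 ≤ m → constantCoeff φ = 0 → constantCoeff ψ = 0 →
    Agree m φ ψ → ∀ d, degree d = m → coeff d (E φ) - coeff d (E ψ) = u m * (coeff d φ - coeff d ψ)

theorem agree_E {E : MvPowerSeries σ R → MvPowerSeries σ R} {u : ℕ → R} (hE : IsLinearised E u)
    {φ ψ : MvPowerSeries σ R} {m : ℕ} (hφ : constantCoeff φ = 0) (hψ : constantCoeff ψ = 0)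
    (h : Agree m φ ψ) {d : σ →₀ ℕ} (hd1 : 1 ≤ degree d) (hd : degree d < m) :
    coeff d (E φ) = coeff d (E ψ) := by
  have := hE φ ψ _ hd1 hφ hψ (fun e he => h e (lt_trans he hd)) d rfl
  rwa [h d hd, sub_self, mul_zero, sub_eq_zero] at this

theorem constantCoeff_of_agree {φ ψ : MvPowerSeries σ R} {m : ℕ} (h : Agree m φ ψ) (hm : 1 ≤ m)
    (hψ : constantCoeff ψ = 0) : constantCoeff φ = 0 := by
  rw [← coeff_zero_eq_constantCoeff_apply, h 0 (by rw [map_zero]; omega),
    coeff_zero_eq_constantCoeff_apply, hψ]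

/-- uniqueness of solutions -/
theorem solve_unique {E : MvPowerSeries σ R → MvPowerSeries σ R} {u : ℕ → R}
    (hE : IsLinearised E u) (hu : ∀ m, 2 ≤ m → ∀ a, u m * a = 0 → a = 0)
    {φ ψ : MvPowerSeries σ R} (hφ : constantCoeff φ = 0) (hψ : constantCoeff ψ = 0)
    (h1 : ∀ d, degree d = 1 → coeff d φ = coeff d ψ)
    (hEq : ∀ d, 2 ≤ degree d → coeff d (E φ) = coeff d (E ψ)) : φ = ψ := by
  suffices ∀ m, Agree m φ ψ from ext fun d => this (degree d + 1) d (Nat.lt_succ_self _)
  intro m
  induction m with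
  | zero => exact fun d hd => absurd hd (Nat.not_lt_zero _)
  | succ m ih =>
    intro d hd
    rcases Nat.lt_succ_iff_lt_or_eq.1 hd with h | h
    · exact ih d h
    match m, h with
    | 0, h =>
      rw [(degree_eq_zero_iff d).1 h, coeff_zero_eq_constantCoeff_apply,
        coeff_zero_eq_constantCoeff_apply, hφ, hψ]
    | 1, h => exact h1 d h
    | m + 2, h =>
      have h2 := hE φ ψ (m + 2) (by omega) hφ hψ ih d h
      rw [hEq d (by omega), sub_self] at h2
      exact sub_eq_zero.1 (hu _ (by omega) _ h2.symm)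

/-- existence of solutions -/
theorem solve_exists {E : MvPowerSeries σ R → MvPowerSeries σ R} {u : ℕ → R}
    (hE : IsLinearised E u) (φ₀ : MvPowerSeries σ R) (h₀ : constantCoeff φ₀ = 0)
    (hdiv : ∀ φ d, constantCoeff φ = 0 → Agree 2 φ φ₀ → 2 ≤ degree d →
      u (degree d) ∣ coeff d (E φ)) :
    ∃ φ, constantCoeff φ = 0 ∧ (∀ d, degree d = 1 → coeff d φ = coeff d φ₀) ∧
      ∀ d, 2 ≤ degree d → coeff d (E φ) = 0 := by
  classical
  let step : ℕ → MvPowerSeries σ R → MvPowerSeries σ R := fun k φ d =>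
    coeff d φ + if h : degree d = k + 2 ∧ u (k + 2) ∣ coeff d (E φ) then -h.2.choose else 0
  let s : ℕ → MvPowerSeries σ R := fun k => Nat.rec φ₀ step k
  have hs : ∀ k, s (k + 1) = step k (s k) := fun k => rfl
  have hstep : ∀ k d, degree d ≠ k + 2 → coeff d (s (k + 1)) = coeff d (s k) := by
    intro k d hd
    show coeff d (s k) + _ = _
    rw [dif_neg (fun h => hd h.1), add_zero]
  have hstab : ∀ k j, Agree (k + 2) (s (k + j)) (s k) := by
    intro k j
    induction j with
    | zero => exact fun d _ => rfl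
    | succ j ih => exact fun d hd => (hstep (k + j) d (by omega)).trans (ih d hd)
  have hs0 : ∀ k, constantCoeff (s k) = 0 := fun k =>
    constantCoeff_of_agree (m := 0 + 2) (fun d hd => (congrArg (fun j => coeff d (s j)) (Nat.zero_add k)).symm.trans (hstab 0 k d hd)) (by omega) h₀
  let φ : MvPowerSeries σ R := fun d => coeff d (s (degree d))
  have hφs : ∀ k, Agree (k + 2) φ (s k) := by
    intro k d hd
    show coeff d (s (degree d)) = _
    rcases Nat.le_total (degree d) k with h | h
    · obtain ⟨j, hj⟩ := Nat.exists_eq_add_of_le h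
      rw [hj]
      exact (hstab (degree d) j d (by omega)).symm
    · obtain ⟨j, hj⟩ := Nat.exists_eq_add_of_le h
      rw [hj]
      exact hstab k j d hd
  have hφ0 : constantCoeff φ = 0 := constantCoeff_of_agree (hφs 0) (by omega) h₀
  refine ⟨φ, hφ0, fun d hd => hφs 0 d (by omega), fun d hd => ?_⟩
  obtain ⟨k, hk⟩ := Nat.exists_eq_add_of_le' hd
  have hag : Agree 2 (s k) φ₀ := fun e he => by
    have := hstab 0 k e (by omega)
    rwa [Nat.zero_add] at this
  have hd' : u (k + 2) ∣ coeff d (E (s k)) := hk ▸ hdiv (s k) d (hs0 k) hag hd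
  have e1 : coeff d (E φ) = coeff d (E (s (k + 1))) :=
    agree_E (m := k + 1 + 2) (d := d) hE hφ0 (hs0 (k + 1)) (hφs (k + 1)) (by omega) (by omega)
  have e2 := hE (s (k + 1)) (s k) (k + 2) (by omega) (hs0 (k + 1)) (hs0 k)
    (fun e he => hstep k e (by omega)) d hk
  have e3 : coeff d (s (k + 1)) - coeff d (s k) = -hd'.choose := by
    show coeff d (s k) + _ - _ = _
    rw [dif_pos ⟨hk, hd'⟩, add_sub_cancel_left]
  rw [e3, mul_neg, ← hd'.choose_spec, sub_eq_neg_self] at e2
  rw [e1, e2]

end Groth.Agent.LTLib
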